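import Groth.Agent.GenEtaleLib.Alg
import Groth.Agent.S1654
import Groth.Agent.AlgSpRegLib.ImageReduced

/-!
# Components of the generic fibre become geometrically irreducible after a finite etale base change
-/

set_option autoImplicit false
set_option linter.style.haveILetI false
set_option backward.isDefEq.respectTransparency false
set_option backward.isDefEq.respectTransparency.types false
set_option maxHeartbeats 1000000
universe u
open CategoryTheory CategoryTheory.Limits AlgebraicGeometry TopologicalSpace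

noncomputable section

namespace GenEtaleLib

theorem exists_iso_of_closedImmersion_range {X Y Z : Scheme.{u}} (f : X ⟶ Z) (g : Y ⟶ Z) [IsClosedImmersion f]
    [IsClosedImmersion g] [IsReduced X] [IsReduced Y] (h : Set.range f.base = Set.range g.base) :
    ∃ α : X ≅ Y, α.hom ≫ g = f := by
  have e : f.ker = g.ker := by
    rw [AlgSpRegLib.ker_eq_vanishingIdeal f, AlgSpRegLib.ker_eq_vanishingIdeal g]
    exact congrArg (fun s => Scheme.IdealSheafData.vanishingIdeal (Closeds.closure s)) h
  refine ⟨⟨IsClosedImmersion.lift g f e.ge, IsClosedImmersion.lift f g e.le, ?_, ?_⟩, IsClosedImmersion.lift_fac _ _ _⟩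
  · rw [← cancel_mono f, Category.assoc, IsClosedImmersion.lift_fac, IsClosedImmersion.lift_fac, Category.id_comp]
  · rw [← cancel_mono g, Category.assoc, IsClosedImmersion.lift_fac, IsClosedImmersion.lift_fac, Category.id_comp]

theorem isReduced_vanishing {X : Scheme.{u}} (S : Closeds X) :
    IsReduced (Scheme.IdealSheafData.vanishingIdeal S).subscheme := by
  haveI : ∀ i, IsReduced ((Scheme.IdealSheafData.vanishingIdeal S).subschemeCover.openCover.X i) :=
    fun (U : X.affineOpens) => by
    change IsReduced (Spec (CommRingCat.of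
      (Γ(X, U) ⧸ (Scheme.IdealSheafData.vanishingIdeal S).ideal U)))
    haveI : _root_.IsReduced (Γ(X, U) ⧸ (Scheme.IdealSheafData.vanishingIdeal S).ideal U) :=
      (Ideal.isRadical_iff_quotient_reduced _).1 (by
        rw [Scheme.IdealSheafData.vanishingIdeal_ideal]
        exact PrimeSpectrum.isRadical_vanishingIdeal _)
    infer_instance
  exact IsReduced.of_openCover (𝒰 := (Scheme.IdealSheafData.vanishingIdeal S).subschemeCover.openCover)

/-- Geometric irreducibility of reduced closed subschemes is carried along isomorphisms. -/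
theorem gi_of_iso {F W S S' : Scheme.{u}} (e : W ≅ F) (a : F ⟶ S) (b : W ⟶ S') (c : S' ≅ S)
    (hc : e.hom ≫ a = b ≫ c.hom)
    (hW : ∀ (T : Set W) (hT : T ∈ irreducibleComponents W), GeometricallyIrreducible
      ((Scheme.IdealSheafData.vanishingIdeal ⟨T, isClosed_of_mem_irreducibleComponents T hT⟩).subschemeι ≫ b))
    (Z : Set F) (hZ : Z ∈ irreducibleComponents F) :
    GeometricallyIrreducible
      ((Scheme.IdealSheafData.vanishingIdeal ⟨Z, isClosed_of_mem_irreducibleComponents Z hZ⟩).subschemeι ≫ a) := by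
  let T : Set W := e.hom.homeomorph ⁻¹' Z
  have hT : T ∈ irreducibleComponents W :=
    ⟨hZ.1.preimage e.hom.homeomorph.isOpenEmbedding (by
        obtain ⟨z, hz⟩ := hZ.1.1
        exact ⟨z, hz, e.hom.homeomorph.surjective z⟩),
      fun S hS hle => by
        have h1 := hZ.2 (hS.image _ e.hom.homeomorph.continuous.continuousOn)
          (by
            intro z hz
            obtain ⟨w, rfl⟩ := e.hom.homeomorph.surjective z
            exact ⟨w, hle hz, rfl⟩)
        exact fun w hw => h1 ⟨w, hw, rfl⟩⟩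
  let i := (Scheme.IdealSheafData.vanishingIdeal ⟨Z, isClosed_of_mem_irreducibleComponents Z hZ⟩).subschemeι
  let i' := (Scheme.IdealSheafData.vanishingIdeal ⟨T, isClosed_of_mem_irreducibleComponents T hT⟩).subschemeι
  have hr : Set.range i.base = Set.range (i' ≫ e.hom).base := by
    rw [Scheme.Hom.comp_base, TopCat.coe_comp, Set.range_comp, Scheme.IdealSheafData.range_subschemeι,
      Scheme.IdealSheafData.range_subschemeι, Scheme.IdealSheafData.coe_support_vanishingIdeal,
      Scheme.IdealSheafData.coe_support_vanishingIdeal]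
    exact (Set.image_preimage_eq Z e.hom.homeomorph.surjective).symm
  haveI := isReduced_vanishing (⟨Z, isClosed_of_mem_irreducibleComponents Z hZ⟩ : Closeds F)
  haveI := isReduced_vanishing (⟨T, isClosed_of_mem_irreducibleComponents T hT⟩ : Closeds W)
  obtain ⟨α, hα⟩ := exists_iso_of_closedImmersion_range i (i' ≫ e.hom) hr
  have hgi : GeometricallyIrreducible (i' ≫ b) := hW T hT
  show GeometricallyIrreducible (i ≫ a)
  rw [← hα, Category.assoc, Category.assoc, hc, MorphismProperty.cancel_left_of_respectsIso @GeometricallyIrreducible,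
    ← Category.assoc, MorphismProperty.cancel_right_of_respectsIso @GeometricallyIrreducible]
  exact hgi

theorem main {X Y : Scheme.{u}} (f : X ⟶ Y) [IrreducibleSpace ↑Y] [LocallyOfFiniteType f] [QuasiCompact f] :
    ∃ (V : Y.Opens) (Y' : Scheme.{u}) (g : Y' ⟶ (V : Scheme.{u})) (hY' : IrreducibleSpace ↑Y'),
      (V : Set ↑Y).Nonempty ∧ IsAffine Y' ∧ Surjective g ∧ IsFinite g ∧ Etale g ∧
      ∀ (Z : Set ↑((pullback.snd f (g ≫ V.ι)).fiber (genericPoint ↑Y')))
        (hZ : Z ∈ irreducibleComponents ↑((pullback.snd f (g ≫ V.ι)).fiber (genericPoint ↑Y'))),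
        GeometricallyIrreducible ((Scheme.IdealSheafData.vanishingIdeal (⟨Z, isClosed_of_mem_irreducibleComponents Z hZ⟩ : Closeds _)).subschemeι ≫
          (pullback.snd f (g ≫ V.ι)).fiberToSpecResidueField (genericPoint ↑Y')) := by
  classical
  obtain ⟨U, hU, hηU, -⟩ := exists_isAffineOpen_mem_and_subset (X := Y) (x := genericPoint Y) (U := ⊤) trivial
  let A := Γ(Y, U)
  let q := (hU.primeIdealOf ⟨genericPoint Y, hηU⟩).asIdeal
  have hq : q ≤ nilradical A := fun a ha => by
    rw [nilradical_eq_sInf, Submodule.mem_sInf]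
    intro p hp
    have hsp : hU.fromSpec.base (hU.primeIdealOf ⟨genericPoint Y, hηU⟩) ⤳ hU.fromSpec.base ⟨p, hp⟩ := by
      rw [hU.fromSpec_primeIdealOf]
      exact genericPoint_specializes _
    exact (PrimeSpectrum.le_iff_specializes _ _).mpr (hU.fromSpec.isOpenEmbedding.isInducing.specializes_iff.mp hsp) ha
  -- the field
  let x₀ : Spec (CommRingCat.of q.ResidueField) ⟶ Y :=
    Spec.map (CommRingCat.ofHom (algebraMap A q.ResidueField)) ≫ hU.fromSpec
  let X₀ := pullback f x₀
  letI : X₀.Over (Spec (CommRingCat.of q.ResidueField)) := ⟨pullback.snd f x₀⟩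
  haveI : LocallyOfFiniteType (X₀ ↘ Spec (CommRingCat.of q.ResidueField)) :=
    MorphismProperty.pullback_snd (P := @LocallyOfFiniteType) f x₀ ‹_›
  haveI : QuasiCompact (X₀ ↘ Spec (CommRingCat.of q.ResidueField)) :=
    MorphismProperty.pullback_snd (P := @QuasiCompact) f x₀ ‹_›
  haveI : IsLocallyNoetherian X₀ := LocallyOfFiniteType.isLocallyNoetherian (X₀ ↘ Spec (CommRingCat.of q.ResidueField))
  haveI : CompactSpace X₀ := QuasiCompact.compactSpace_of_compactSpace (X₀ ↘ Spec (CommRingCat.of q.ResidueField))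
  haveI : IsNoetherian X₀ := ⟨⟩
  obtain ⟨L, _, _, _, _, hL⟩ := Groth.Agent.S1654.result q.ResidueField X₀
    NoetherianSpace.finite_irreducibleComponents
  letI : Algebra A L := ((algebraMap q.ResidueField L).comp (algebraMap A q.ResidueField)).toAlgebra
  haveI : IsScalarTower A q.ResidueField L := IsScalarTower.of_algebraMap_eq fun _ => rfl
  obtain ⟨s, hs, B, _, _, _, _, φ, hfin, het, hfree, hnt, hmin, hfrac⟩ := exists_model q L hq
  let A' := Localization.Away s
  let Y' := Spec (CommRingCat.of B)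
  let g' : Y' ⟶ Spec (CommRingCat.of A') := Spec.map (CommRingCat.ofHom (algebraMap A' B))
  haveI : IsOpenImmersion (Spec.map (CommRingCat.ofHom (algebraMap A A'))) := IsOpenImmersion.of_isLocalization s
  let j : Spec (CommRingCat.of A') ⟶ Y := Spec.map (CommRingCat.ofHom (algebraMap A A')) ≫ hU.fromSpec
  let g : Y' ⟶ (j.opensRange : Scheme.{u}) := g' ≫ j.isoOpensRange.hom
  have hg : g ≫ j.opensRange.ι = g' ≫ j := by
    rw [Category.assoc, Scheme.Hom.isoOpensRange_hom_ι]
  haveI : IsFinite g' := (IsFinite.SpecMap_iff _).mpr (RingHom.finite_algebraMap.mpr hfin)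
  haveI : Etale g' := (HasRingHomProperty.Spec_iff (P := @Etale)).mpr (RingHom.etale_algebraMap.mpr het)
  haveI : Surjective g' := ⟨PrimeSpectrum.comap_surjective_of_faithfullyFlat (A := A') (B := B)⟩
  let Q : PrimeSpectrum B := ⟨RingHom.ker φ.toRingHom, RingHom.ker_isPrime _⟩
  have hQgen : IsGenericPoint (Q : Y') Set.univ := by
    refine Set.eq_univ_of_forall fun p => ?_
    exact ((PrimeSpectrum.le_iff_specializes Q p).mp (hmin _ p.isPrime)).mem_closure
  have hY' : IrreducibleSpace Y' :=
    { isPreirreducible_univ := (hQgen.isIrreducible).2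
      toNonempty := ⟨Q⟩ }
  refine ⟨j.opensRange, Y', g, hY', ⟨j.base (g'.base Q), ⟨g'.base Q, rfl⟩⟩, inferInstance, inferInstance,
    inferInstance, inferInstance, ?_⟩
  let lam : Spec (CommRingCat.of L) ⟶ Y' := Spec.map (CommRingCat.ofHom φ.toRingHom)
  have hpt : lam.base (IsLocalRing.closedPoint L) = genericPoint Y' := by
    refine Eq.trans ?_ ((genericPoint_spec Y').eq hQgen).symm
    refine PrimeSpectrum.ext ?_
    show (IsLocalRing.maximalIdeal L).comap φ.toRingHom = RingHom.ker φ.toRingHom
    rw [IsLocalRing.maximalIdeal_eq_bot]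
    rfl
  obtain ⟨δ, hδ⟩ : ∃ δ : Y'.residueField (genericPoint Y') ⟶ CommRingCat.of L,
      Spec.map δ ≫ Y'.fromSpecResidueField (genericPoint Y') = lam :=
    hpt ▸ ⟨_, Scheme.descResidueField_stalkClosedPointTo_fromSpecResidueField L Y' lam⟩
  obtain ⟨ψ, hψ⟩ := Spec.map_surjective (Y'.fromSpecResidueField (genericPoint Y'))
  have hφ : ψ ≫ δ = CommRingCat.ofHom φ.toRingHom := by
    apply Spec.map_injective
    rw [Spec.map_comp, hψ, hδ]
  haveI : IsIso δ := by
    refine (ConcreteCategory.isIso_iff_bijective δ).mpr ⟨δ.hom.injective, fun x => ?_⟩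
    obtain ⟨b, b', hb', hb⟩ := hfrac x
    refine ⟨ψ.hom b / ψ.hom b', ?_⟩
    show δ.hom (ψ.hom b / ψ.hom b') = x
    have h1 : ∀ c, δ.hom (ψ.hom c) = φ c := fun c => congr($(hφ).hom c)
    rw [map_div₀, h1, h1, hb, mul_div_cancel_left₀ _ hb']
  let c : Spec (CommRingCat.of L) ≅ Spec (Y'.residueField (genericPoint Y')) := asIso (Spec.map δ)
  let W := Curv2.bc q.ResidueField X₀ L
  let t := Y'.fromSpecResidueField (genericPoint Y') ≫ g ≫ j.opensRange.ι
  have ht : Spec.map (CommRingCat.ofHom (algebraMap q.ResidueField L)) ≫ x₀ = c.hom ≫ t := by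
    show _ = Spec.map δ ≫ Y'.fromSpecResidueField _ ≫ g ≫ j.opensRange.ι
    rw [reassoc_of% hδ, hg]
    simp only [x₀, lam, g', j]
    rw [← Spec.map_comp_assoc, ← Spec.map_comp_assoc, ← Spec.map_comp_assoc]
    congr 2
    refine CommRingCat.hom_ext (RingHom.ext fun a => ?_)
    show algebraMap q.ResidueField L (algebraMap A q.ResidueField a) = φ (algebraMap A' B (algebraMap A A' a))
    rw [← IsScalarTower.algebraMap_apply A A' B, φ.commutes]
    rfl
  have h1 : IsPullback (Curv2.bcFst q.ResidueField X₀ L ≫ pullback.fst f x₀) (Curv2.bcSnd q.ResidueField X₀ L) f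
      (c.hom ≫ t) := ht ▸ (IsPullback.of_hasPullback (pullback.snd f x₀) _).paste_horiz (IsPullback.of_hasPullback f x₀)
  have h2 : IsPullback (Curv2.bcFst q.ResidueField X₀ L ≫ pullback.fst f x₀)
      (Curv2.bcSnd q.ResidueField X₀ L ≫ c.hom) f t :=
    h1.of_iso (Iso.refl _) (Iso.refl _) c (Iso.refl _) (by simp) (by simp) (by simp) (by simp)
  let p' := pullback.snd f (g ≫ j.opensRange.ι)
  have h3 : IsPullback (p'.fiberι (genericPoint Y') ≫ pullback.fst f (g ≫ j.opensRange.ι))
      (p'.fiberToSpecResidueField (genericPoint Y')) f t :=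
    (IsPullback.of_hasPullback p' (Y'.fromSpecResidueField (genericPoint Y'))).paste_horiz
      (IsPullback.of_hasPullback f (g ≫ j.opensRange.ι))
  intro Z hZ
  exact gi_of_iso (h2.isoIsPullback _ _ h3) _ _ c (h2.isoIsPullback_hom_snd _ _ h3) hL Z hZ

end GenEtaleLib
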