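import Mathlib

/-!
# Finite etale models of finite separable extensions of the generic residue field
-/

set_option autoImplicit false
set_option linter.style.haveILetI false
set_option maxHeartbeats 1000000
universe u
open Polynomial

noncomputable section

namespace GenEtaleLib

variable {A : Type u} [CommRing A] (q : Ideal A) [q.IsPrime]

theorem exists_num (c : q.ResidueField) :
    ∃ s ∉ q, ∃ a : A, algebraMap A q.ResidueField a = algebraMap A q.ResidueField s * c := by
  obtain ⟨⟨a, s⟩, h⟩ := IsLocalization.surj (nonZeroDivisors (A ⧸ q)) c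
  obtain ⟨a, rfl⟩ := Ideal.Quotient.mk_surjective a
  obtain ⟨s', hs'⟩ := Ideal.Quotient.mk_surjective (s : A ⧸ q)
  refine ⟨s', fun hmem => nonZeroDivisors.coe_ne_zero s (hs' ▸ Ideal.Quotient.eq_zero_iff_mem.mpr hmem), a, ?_⟩
  rw [mul_comm, IsScalarTower.algebraMap_apply A (A ⧸ q) q.ResidueField a,
    IsScalarTower.algebraMap_apply A (A ⧸ q) q.ResidueField s', Ideal.Quotient.algebraMap_eq, hs']
  exact h.symm

theorem algebraMap_ne_zero {s : A} (hs : s ∉ q) : algebraMap A q.ResidueField s ≠ 0 :=
  fun h => hs (Ideal.algebraMap_residueField_eq_zero.mp h)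

variable (L : Type u) [Field L] [Algebra q.ResidueField L] [Algebra A L] [IsScalarTower A q.ResidueField L]

/-- An element integral over the residue field is, after scaling, a root of a monic lift. -/
theorem exists_monic_lift [FiniteDimensional q.ResidueField L] (α : L) :
    ∃ t ∉ q, ∃ P : A[X], P.Monic ∧
      minpoly q.ResidueField (algebraMap A L t * α) = P.map (algebraMap A q.ResidueField) := by
  classical
  let g := minpoly q.ResidueField α
  choose s hs a ha using fun i => exists_num q (g.coeff i)
  let t := ∏ i ∈ Finset.range g.natDegree, s i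
  have ht : t ∉ q := fun h => by
    obtain ⟨i, -, hi⟩ := (Ideal.IsPrime.prod_mem_iff (p := q)).mp h
    exact hs i hi
  refine ⟨t, ht, ?_⟩
  have hα : IsIntegral q.ResidueField α := IsIntegral.of_finite _ _
  have hg : g.Monic := minpoly.monic hα
  let c := algebraMap A q.ResidueField t
  have hc : c ≠ 0 := algebraMap_ne_zero q ht
  have hlift : g.scaleRoots c ∈ Polynomial.lifts (algebraMap A q.ResidueField) := by
    rw [Polynomial.lifts_iff_coeff_lifts]
    intro i
    rw [Polynomial.coeff_scaleRoots]
    rcases lt_trichotomy i g.natDegree with hi | hi | hi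
    · obtain ⟨r, hr⟩ : s i ∣ t := Finset.dvd_prod_of_mem s (Finset.mem_range.mpr hi)
      refine ⟨a i * r * t ^ (g.natDegree - i - 1), ?_⟩
      obtain ⟨j, hj⟩ : ∃ j, g.natDegree - i = j + 1 := ⟨g.natDegree - i - 1, by omega⟩
      rw [hj, Nat.add_sub_cancel, pow_succ, map_mul, map_mul, map_pow, ha]
      show _ = g.coeff i * (c ^ j * c)
      simp only [c]
      conv_rhs => rw [show algebraMap A q.ResidueField t =
        algebraMap A q.ResidueField (s i) * algebraMap A q.ResidueField r by rw [← map_mul, ← hr]]
      rw [show algebraMap A q.ResidueField t =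
        algebraMap A q.ResidueField (s i) * algebraMap A q.ResidueField r by rw [← map_mul, ← hr]]
      ring
    · refine ⟨1, ?_⟩
      rw [hi, Nat.sub_self, pow_zero, mul_one, map_one]
      exact hg.coeff_natDegree.symm
    · refine ⟨0, ?_⟩
      rw [Polynomial.coeff_eq_zero_of_natDegree_lt hi, zero_mul, map_zero]
  obtain ⟨P, hP, -, hPm⟩ := Polynomial.lifts_and_natDegree_eq_and_monic hlift ((Polynomial.monic_scaleRoots_iff c).mpr hg)
  refine ⟨P, hPm, ?_⟩
  rw [hP, IsScalarTower.algebraMap_apply A q.ResidueField L]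
  let β := algebraMap q.ResidueField L c * α
  have hβ : IsIntegral q.ResidueField β := IsIntegral.of_finite _ _
  have h1 : Polynomial.aeval β (g.scaleRoots c) = 0 := Polynomial.scaleRoots_aeval_eq_zero (minpoly.aeval _ _)
  have h2 : Polynomial.aeval α ((minpoly q.ResidueField β).scaleRoots c⁻¹) = 0 := by
    have := Polynomial.scaleRoots_aeval_eq_zero (r := c⁻¹) (minpoly.aeval q.ResidueField β)
    rwa [show algebraMap q.ResidueField L c⁻¹ * β = α by
      show algebraMap q.ResidueField L c⁻¹ * (algebraMap q.ResidueField L c * α) = α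
      rw [← mul_assoc, ← map_mul, inv_mul_cancel₀ hc, map_one, one_mul]] at this
  have d1 : g.natDegree ≤ (minpoly q.ResidueField β).natDegree := by
    rw [← Polynomial.natDegree_scaleRoots (minpoly q.ResidueField β) c⁻¹]
    exact Polynomial.natDegree_le_of_dvd (minpoly.dvd _ _ h2)
      ((Polynomial.monic_scaleRoots_iff c⁻¹).mpr (minpoly.monic hβ)).ne_zero
  have d2 : (minpoly q.ResidueField β) ∣ g.scaleRoots c := minpoly.dvd _ _ h1
  exact (Polynomial.eq_of_monic_of_dvd_of_natDegree_le (minpoly.monic hβ)
    ((Polynomial.monic_scaleRoots_iff c).mpr hg) d2 (by rw [Polynomial.natDegree_scaleRoots]; exact d1)).symm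

variable {L} in
theorem isNilpotent_mk {R : Type u} [CommRing R] (f : R →+* q.ResidueField) (hf : RingHom.ker f ≤ nilradical R)
    (β : L) {P : R[X]} (hPm : P.Monic) (hP : minpoly q.ResidueField β = P.map f) {G : R[X]}
    (hG : Polynomial.aeval β (G.map f) = 0) : IsNilpotent (AdjoinRoot.mk P G) := by
  have h1 : P.map f ∣ G.map f := hP ▸ minpoly.dvd _ _ hG
  have h2 : (G %ₘ P).map f = 0 := by
    rw [Polynomial.map_modByMonic _ hPm]
    exact (Polynomial.modByMonic_eq_zero_iff_dvd (hPm.map _)).mpr h1
  have h3 : AdjoinRoot.mk P G = AdjoinRoot.mk P (G %ₘ P) := by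
    rw [AdjoinRoot.mk_eq_mk]
    exact ⟨G /ₘ P, sub_eq_iff_eq_add'.mpr (Polynomial.modByMonic_add_div G P).symm⟩
  rw [h3]
  refine IsNilpotent.map ?_ (AdjoinRoot.mk P)
  rw [Polynomial.isNilpotent_iff]
  intro i
  have h4 := congrArg (fun g => g.coeff i) h2
  simp only [Polynomial.coeff_map, Polynomial.coeff_zero] at h4
  exact hf h4

/-- A finite etale algebra over a principal open of the base whose only point over the minimal prime `q`
has residue field `L`. -/
theorem exists_model [FiniteDimensional q.ResidueField L] [Algebra.IsSeparable q.ResidueField L]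
    (hq : q ≤ nilradical A) :
    ∃ s ∉ q, ∃ (B : Type u) (_ : CommRing B) (_ : Algebra (Localization.Away s) B) (_ : Algebra A B)
      (_ : IsScalarTower A (Localization.Away s) B) (φ : B →ₐ[A] L),
      Module.Finite (Localization.Away s) B ∧ Algebra.Etale (Localization.Away s) B ∧
      Module.Free (Localization.Away s) B ∧ Nontrivial B ∧
      (∀ p : Ideal B, p.IsPrime → RingHom.ker φ.toRingHom ≤ p) ∧
      ∀ x : L, ∃ b b' : B, φ b' ≠ 0 ∧ φ b = φ b' * x := by
  classical
  obtain ⟨α, hα⟩ := Field.exists_primitive_element q.ResidueField L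
  obtain ⟨t, ht, P, hPm, hP⟩ := exists_monic_lift q L α
  let β := algebraMap A L t * α
  have hβint : IsIntegral q.ResidueField β := IsIntegral.of_finite _ _
  have hβ : Polynomial.aeval β (P.map (algebraMap A q.ResidueField)) = 0 := by rw [← hP]; exact minpoly.aeval _ _
  have hβA : Polynomial.aeval β P = 0 := by rwa [Polynomial.aeval_map_algebraMap] at hβ
  have htop : ∀ x : L, ∃ g : q.ResidueField[X], Polynomial.aeval β g = x := by
    intro x
    have hadj : IntermediateField.adjoin q.ResidueField {β} = ⊤ := by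
      refine top_le_iff.mp (hα ▸ IntermediateField.adjoin_le_iff.mpr (Set.singleton_subset_iff.mpr ?_))
      have h1 : α = (algebraMap q.ResidueField L (algebraMap A q.ResidueField t))⁻¹ * β := by
        rw [← IsScalarTower.algebraMap_apply]
        show α = (algebraMap A L t)⁻¹ * (algebraMap A L t * α)
        rw [← mul_assoc, inv_mul_cancel₀, one_mul]
        rw [IsScalarTower.algebraMap_apply A q.ResidueField L, _root_.map_ne_zero]
        exact algebraMap_ne_zero q ht
      rw [h1]
      exact mul_mem (inv_mem (IntermediateField.algebraMap_mem _ _))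
        (IntermediateField.subset_adjoin _ _ rfl)
    have hx : x ∈ (IntermediateField.adjoin q.ResidueField {β}).toSubalgebra := by rw [hadj]; trivial
    rw [IntermediateField.adjoin_simple_toSubalgebra_of_isAlgebraic hβint.isAlgebraic,
      Algebra.adjoin_singleton_eq_range_aeval] at hx
    exact hx
  -- numerators in `A`
  have hnum : ∀ x : L, ∃ d ∉ q, ∃ G : A[X], Polynomial.aeval β G = algebraMap A L d * x := by
    intro x
    obtain ⟨g, rfl⟩ := htop x
    induction g using Polynomial.induction_on' with
    | add g h hg hh =>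
      obtain ⟨d, hd, G, hG⟩ := hg
      obtain ⟨e, he, H, hH⟩ := hh
      refine ⟨d * e, fun hmem => (Ideal.IsPrime.mem_or_mem ‹_› hmem).elim hd he, C e * G + C d * H, ?_⟩
      rw [map_add, map_mul, map_mul, Polynomial.aeval_C, Polynomial.aeval_C, hG, hH, map_mul, map_add]
      ring
    | monomial n c =>
      obtain ⟨d, hd, a, ha⟩ := exists_num q c
      refine ⟨d, hd, monomial n a, ?_⟩
      rw [Polynomial.aeval_monomial, Polynomial.aeval_monomial, IsScalarTower.algebraMap_apply A q.ResidueField L a, ha,
        map_mul, ← IsScalarTower.algebraMap_apply, mul_assoc]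
  have hsep : Polynomial.aeval β P.derivative ≠ 0 := by
    have h1 : (minpoly q.ResidueField β).Separable := Algebra.IsSeparable.isSeparable q.ResidueField β
    have := h1.aeval_derivative_ne_zero (minpoly.aeval q.ResidueField β)
    rwa [hP, Polynomial.derivative_map, Polynomial.aeval_map_algebraMap] at this
  obtain ⟨d, hd, V, hV⟩ := hnum (Polynomial.aeval β P.derivative)⁻¹
  -- `P' V - d` is nilpotent modulo `P`
  have hnil : IsNilpotent (AdjoinRoot.mk P (P.derivative * V - C d)) := isNilpotent_mk q (algebraMap A q.ResidueField)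
    (fun x hx => hq (Ideal.algebraMap_residueField_eq_zero.mp hx)) β hPm hP (by
    rw [Polynomial.aeval_map_algebraMap, map_sub, map_mul, hV, Polynomial.aeval_C, mul_left_comm, mul_inv_cancel₀ hsep, mul_one, sub_self])
  refine ⟨d, hd, ?_⟩
  let A' := Localization.Away d
  let P' := P.map (algebraMap A A')
  have hPm' : P'.Monic := hPm.map _
  let B := AdjoinRoot P'
  have hu : IsUnit (AdjoinRoot.mk P' P'.derivative) := by
    obtain ⟨n, hn⟩ := hnil
    have h1 : IsNilpotent (AdjoinRoot.mk P' (P'.derivative * V.map (algebraMap A A') - C (algebraMap A A' d))) := by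
      refine ⟨n, ?_⟩
      rw [← map_pow, AdjoinRoot.mk_eq_zero] at hn ⊢
      have := Polynomial.map_dvd (algebraMap A A') hn
      rw [Polynomial.map_pow, Polynomial.map_sub, Polynomial.map_mul, Polynomial.map_C] at this
      rwa [Polynomial.derivative_map]
    have hdu : IsUnit (AdjoinRoot.mk P' (C (algebraMap A A' d))) :=
      ((IsLocalization.Away.algebraMap_isUnit d).map C).map (AdjoinRoot.mk P')
    have h2 := h1.isUnit_add_left_of_commute hdu (Commute.all _ _)
    rw [← map_add, add_sub_cancel, map_mul] at h2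
    exact isUnit_of_mul_isUnit_left h2
  obtain ⟨w, hw⟩ := hu.exists_right_inv
  obtain ⟨W, rfl⟩ := AdjoinRoot.mk_surjective w
  rw [← map_mul, ← map_one (AdjoinRoot.mk P'), AdjoinRoot.mk_eq_mk] at hw
  obtain ⟨Q, hQ⟩ := hw
  let pair : StandardEtalePair A' :=
    { f := P'
      monic_f := hPm'
      g := 1
      cond := ⟨W, -Q, 0, by rw [pow_zero]; linear_combination hQ⟩ }
  let e : pair.Ring ≃ₐ[A'] B :=
    pair.equivAwayAdjoinRoot.trans (IsLocalization.atUnits B (.powers (AdjoinRoot.mk P' 1)) (by
      rintro _ ⟨m, rfl⟩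
      show IsUnit _
      simp) |>.restrictScalars A').symm
  haveI hEt : Algebra.Etale A' B := Algebra.Etale.of_equiv e
  haveI hfin : Module.Finite A' B := hPm'.finite_adjoinRoot
  haveI hfree : Module.Free A' B := hPm'.free_adjoinRoot
  have hdA : IsUnit (algebraMap A L d) := isUnit_iff_ne_zero.mpr (by
    rw [IsScalarTower.algebraMap_apply A q.ResidueField L, _root_.map_ne_zero]
    exact algebraMap_ne_zero q hd)
  let ι : A' →ₐ[A] L := IsLocalization.liftAlgHom (M := Submonoid.powers d) (f := Algebra.ofId A L) (by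
    rintro ⟨_, m, rfl⟩
    show IsUnit (algebraMap A L (d ^ m))
    rw [map_pow]
    exact hdA.pow m)
  have hβ' : Polynomial.eval₂ ι.toRingHom β P' = 0 := by
    rw [Polynomial.eval₂_map]
    rw [show ι.toRingHom.comp (algebraMap A A') = algebraMap A L from RingHom.ext ι.commutes]
    exact hβA
  let φ' : B →+* L := AdjoinRoot.lift ι.toRingHom β hβ'
  let φ : B →ₐ[A] L := { φ' with
    commutes' := fun a => by
      show φ' (algebraMap A B a) = _
      rw [IsScalarTower.algebraMap_apply A A' B, AdjoinRoot.algebraMap_eq, AdjoinRoot.lift_of]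
      exact ι.commutes a }
  refine ⟨B, inferInstance, inferInstance, inferInstance, inferInstance, φ, hfin, hEt, hfree,
    φ.toRingHom.domain_nontrivial, fun p hp x hx => ?_, fun x => ?_⟩
  · obtain ⟨G, rfl⟩ := AdjoinRoot.mk_surjective x
    have hdκ : IsUnit (algebraMap A q.ResidueField d) := isUnit_iff_ne_zero.mpr (algebraMap_ne_zero q hd)
    let ι₀ : A' →+* q.ResidueField := IsLocalization.Away.lift d hdκ
    have hι₀ : ∀ a, ι₀ (algebraMap A A' a) = algebraMap A q.ResidueField a := fun a =>
      IsLocalization.Away.lift_eq d hdκ a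
    have hιL : (algebraMap q.ResidueField L).comp ι₀ = ι.toRingHom :=
      IsLocalization.ringHom_ext (Submonoid.powers d) (RingHom.ext fun a => by
        show algebraMap q.ResidueField L (ι₀ (algebraMap A A' a)) = ι (algebraMap A A' a)
        rw [hι₀, ι.commutes, ← IsScalarTower.algebraMap_apply])
    have hx0 : φ' (AdjoinRoot.mk P' G) = 0 := hx
    refine hp.mem_of_pow_mem _ ((isNilpotent_mk q ι₀ (fun y hy => ?_) β hPm' ?_ ?_).choose_spec.symm ▸ p.zero_mem)
    · obtain ⟨⟨a, m⟩, ham⟩ := IsLocalization.surj (Submonoid.powers d) y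
      have h7 : algebraMap A q.ResidueField a = 0 := by
        rw [← hι₀, ← ham, map_mul, RingHom.mem_ker.mp hy, zero_mul]
      have h8 : IsNilpotent (y * algebraMap A A' (m : A)) := by
        rw [ham]
        exact IsNilpotent.map (hq (Ideal.algebraMap_residueField_eq_zero.mp h7)) (algebraMap A A')
      obtain ⟨u, hu'⟩ := IsLocalization.map_units A' m
      rw [← hu'] at h8
      obtain ⟨n, hn⟩ := h8
      rw [mul_pow, ← Units.val_pow_eq_pow_val, Units.mul_left_eq_zero] at hn
      exact ⟨n, hn⟩
    · rw [hP, Polynomial.map_map]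
      exact congrArg (fun f => P.map f) (RingHom.ext fun a => (hι₀ a).symm)
    · rw [Polynomial.aeval_def, Polynomial.eval₂_map, hιL]
      rwa [AdjoinRoot.lift_mk] at hx0
  · obtain ⟨e', he', G, hG⟩ := hnum x
    refine ⟨AdjoinRoot.mk P' (G.map (algebraMap A A')), algebraMap A B e', ?_, ?_⟩
    · rw [φ.commutes, IsScalarTower.algebraMap_apply A q.ResidueField L, _root_.map_ne_zero]
      exact algebraMap_ne_zero q he'
    · rw [φ.commutes, ← hG]
      show φ' (AdjoinRoot.mk P' _) = _
      rw [AdjoinRoot.lift_mk, Polynomial.eval₂_map,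
        show ι.toRingHom.comp (algebraMap A A') = algebraMap A L from RingHom.ext ι.commutes]
      rfl

end GenEtaleLib
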